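import Mathlib
import Cfsg.Agent.Lib.Blk89.ItoMichler
import Cfsg.Agent.Lib.Char.CliffordCorr
import Cfsg.Agent.Lib.Char.Linear
import Cfsg.Agent.Lib.FG85.OrbitKey
import Cfsg.Agent.Lib.Core.Basic
import Cfsg.Agent.Lib.Solvable.Basic

/-!
# Nonvanishing elements of odd prime power order in solvable groups

`Fx x`: in every quotient `Q` of `G`, every linear character of every normal subgroup is fixed by
some conjugate of the image of `x`.  Every element which is a zero of no irreducible character has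
this property, and in a solvable group a `p`-element (`p` odd) with this property lies in `O_p(G)`.
-/

set_option autoImplicit false
set_option linter.unusedSectionVars false
set_option linter.unusedVariables false

namespace Cfsg.Agent.Lib.Vanish.Fix

open Cfsg Subgroup
open Cfsg.Agent.Lib.FG85.Blocks Cfsg.Agent.Lib.FG85.OrbitKey Cfsg.Agent.Lib.Solvable.Basic
open Cfsg.Agent.Lib.Core.Basic

universe u

/-- The fixing property. -/
def Fx {G : Type u} [Group G] (x : G) : Prop :=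
  ∀ (Q : Type u) [Group Q] [Finite Q] (π : G →* Q), Function.Surjective π →
    ∀ (A : Subgroup Q) (hA : A.Normal) (lam : A →* ℂˣ), ∃ q : Q, ∀ a : A,
      lam ⟨(q * π x * q⁻¹) * a * (q * π x * q⁻¹)⁻¹, hA.conj_mem _ a.2 _⟩ = lam a

/-- The stabiliser of a linear character of a normal subgroup. -/
def stabL {Q : Type u} [Group Q] {A : Subgroup Q} (hA : A.Normal) (lam : A →* ℂˣ) : Subgroup Q where
  carrier := {c | ∀ a : A, lam ⟨c * a * c⁻¹, hA.conj_mem _ a.2 _⟩ = lam a}
  mul_mem' := by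
    intro c d hc hd a
    have h1 := hc ⟨d * a * d⁻¹, hA.conj_mem _ a.2 _⟩
    have h2 := hd a
    rw [← h2, ← h1]
    congr 1
    apply Subtype.ext
    simp only
    group
  one_mem' := by
    intro a
    congr 1
    apply Subtype.ext
    simp
  inv_mem' := by
    intro c hc a
    have h1 := hc ⟨c⁻¹ * a * c⁻¹⁻¹, hA.conj_mem _ a.2 _⟩
    rw [← h1]
    congr 1
    apply Subtype.ext
    simp only
    group

@[simp] theorem mem_stabL {Q : Type u} [Group Q] {A : Subgroup Q} (hA : A.Normal) (lam : A →* ℂˣ)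
    (c : Q) : c ∈ stabL hA lam ↔ ∀ a : A, lam ⟨c * a * c⁻¹, hA.conj_mem _ a.2 _⟩ = lam a := Iff.rfl

/-- `Fx` passes to powers. -/
theorem Fx.pow {G : Type u} [Group G] {x : G} (h : Fx x) (m : ℕ) : Fx (x ^ m) := by
  intro Q _ _ π hπ A hA lam
  obtain ⟨q, hq⟩ := h Q π hπ A hA lam
  refine ⟨q, fun a => ?_⟩
  have h1 : q * π x * q⁻¹ ∈ stabL hA lam := hq
  have h2 : (q * π x * q⁻¹) ^ m ∈ stabL hA lam := pow_mem h1 m
  have h3 : (q * π x * q⁻¹) ^ m = q * π (x ^ m) * q⁻¹ := by
    rw [map_pow, conj_pow]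
  rw [h3] at h2
  exact h2 a

/-- `Fx` passes to quotients. -/
theorem Fx.map {G H : Type u} [Group G] [Group H] {x : G} (h : Fx x) (f : G →* H)
    (hf : Function.Surjective f) : Fx (f x) := by
  intro Q _ _ π hπ A hA lam
  exact h Q (π.comp f) (hπ.comp hf) A hA lam

section PartA

/-- A nonvanishing element has the fixing property. -/
theorem fx_of_nonvanishing {G : Type u} [Group G] {x : G}
    (h : ∀ χ : IrrCharacter G, (χ : G → ℂ) x ≠ 0) : Fx x := by
  intro Q _ _ π hπ A hA lam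
  classical
  letI := Fintype.ofFinite Q
  letI := Fintype.ofFinite A
  let ϑ : A → ℂ := fun a => (lam a : ℂ)
  have hϑ : IsIrrCharacter A ϑ := Cfsg.Agent.Lib.Char.Linear.isIrrCharacter_of_hom lam
  have hϑc : IsClassFunction A ϑ :=
    Cfsg.Agent.Lib.Char.Basic.isClassFunction_of_isCharacter
      (Cfsg.Agent.Lib.Char.Basic.isCharacter_of_isIrrCharacter hϑ)
  let T := Cfsg.Agent.Lib.Char.CliffordCorr.inertia hA ϑ
  letI : Fintype T := Fintype.ofFinite T
  have hAT : A ≤ T := Cfsg.Agent.Lib.Char.CliffordCorr.le_inertia hA hϑc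
  obtain ⟨χ, hcon⟩ := Cfsg.Agent.Lib.Blk89.ItoMichler.exists_irr_over hϑ
  obtain ⟨ψ, hψ, hind, -⟩ :=
    Cfsg.Agent.Lib.Char.CliffordCorr.exists_irr_inertia_of_lies_over hA hAT hϑ rfl χ.2 hcon
  have h1 : (χ : Q → ℂ) (π x) ≠ 0 :=
    h ⟨(χ : Q → ℂ) ∘ π, Cfsg.Agent.Lib.Char.Linear.isIrrCharacter_comp π hπ χ.2⟩
  rw [← hind] at h1
  unfold indFun at h1
  have h2 := right_ne_zero_of_mul h1
  obtain ⟨y, -, hy⟩ := Finset.exists_ne_zero_of_sum_ne_zero h2
  have hyT : y⁻¹ * π x * y ∈ T := by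
    by_contra hn
    exact hy (Cfsg.Agent.Lib.Char.Induced.extendByZero_of_not_mem T ψ hn)
  refine ⟨y⁻¹, fun a => ?_⟩
  have h3 := congrFun hyT a
  apply Units.ext
  have h4 : y⁻¹ * π x * y⁻¹⁻¹ = y⁻¹ * π x * y := by simp
  simp only [h4]
  exact h3

end PartA

/-- Elements of coprime prime-power orders. -/
theorem eq_one_of_pow_pow {G : Type*} [Group G] {p r : ℕ} (hp : p.Prime) (hr : r.Prime) (hne : r ≠ p)
    {t : G} {k : ℕ} (h1 : t ^ (p ^ k) = 1) (h2 : t ^ r = 1) : t = 1 := by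
  have h3 : orderOf t ∣ p ^ k := orderOf_dvd_of_pow_eq_one h1
  have h4 : orderOf t ∣ r := orderOf_dvd_of_pow_eq_one h2
  have h5 : Nat.Coprime (p ^ k) r := Nat.Coprime.pow_left _ ((Nat.coprime_primes hp hr).mpr hne.symm)
  have h6 : orderOf t = 1 := Nat.eq_one_of_dvd_coprimes h5 h3 h4
  exact orderOf_eq_one_iff.mp h6

section Dual

variable {G : Type u} [Group G] {M : Subgroup G}

/-- The dual action, on functions. -/
def dualFun (hM : M.Normal) (g : G) (lam : M →* ℂˣ) : M →* ℂˣ where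
  toFun a := lam ⟨g⁻¹ * a * g⁻¹⁻¹, hM.conj_mem _ a.2 _⟩
  map_one' := by
    have : (⟨g⁻¹ * ((1 : M) : G) * g⁻¹⁻¹, hM.conj_mem _ (1 : M).2 _⟩ : M) = 1 := by
      apply Subtype.ext
      simp
    rw [this, map_one]
  map_mul' a b := by
    rw [← map_mul]
    congr 1
    apply Subtype.ext
    simp only [Subgroup.coe_mul]
    group

@[simp] theorem dualFun_apply (hM : M.Normal) (g : G) (lam : M →* ℂˣ) (a : M) :
    dualFun hM g lam a = lam ⟨g⁻¹ * a * g⁻¹⁻¹, hM.conj_mem _ a.2 _⟩ := rfl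

/-- The dual module. -/
@[reducible] def dualAct (hM : M.Normal) : DistribMulAction G (Additive (M →* ℂˣ)) where
  smul g v := Additive.ofMul (dualFun hM g v.toMul)
  one_smul v := by
    apply Additive.toMul.injective
    ext a
    change (v.toMul ⟨1⁻¹ * a * 1⁻¹⁻¹, _⟩ : ℂ) = _
    congr 2
    apply Subtype.ext
    simp
  mul_smul g h v := by
    apply Additive.toMul.injective
    ext a
    change (v.toMul ⟨(g * h)⁻¹ * a * (g * h)⁻¹⁻¹, _⟩ : ℂ) = (v.toMul ⟨h⁻¹ * (g⁻¹ * a * g⁻¹⁻¹) * h⁻¹⁻¹, _⟩ : ℂ)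
    congr 2
    apply Subtype.ext
    simp only
    group
  smul_zero g := by
    apply Additive.toMul.injective
    ext a
    rfl
  smul_add g v w := by
    apply Additive.toMul.injective
    ext a
    rfl

theorem dual_smul_toMul (hM : M.Normal) (g : G) (v : Additive (M →* ℂˣ)) (a : M) :
    letI := dualAct hM
    (g • v).toMul a = v.toMul ⟨g⁻¹ * a * g⁻¹⁻¹, hM.conj_mem _ a.2 _⟩ := rfl

end Dual

section Main

/-- The critical case: an element moving points of an elementary abelian minimal normal subgroup. -/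
theorem false_of_moving {p : ℕ} [Fact p.Prime] (hp2 : p ≠ 2) {G : Type u} [Group G] [Finite G]
    {M L : Subgroup G} (hMn : M.Normal) (hM1 : M ≠ ⊥)
    (hmin : ∀ K : Subgroup G, K.Normal → K ≤ M → K = ⊥ ∨ K = M)
    (hMcomm : ∀ x ∈ M, ∀ y ∈ M, x * y = y * x) {r : ℕ} (hr : r.Prime) (hrp : r ≠ p)
    (hMr : ∀ x ∈ M, x ^ r = 1) (hLn : L.Normal) (hLpow : ∀ y ∈ L, ∃ k : ℕ, y ^ (p ^ k) ∈ M)
    {x : G} (hxL : x ∈ L) (hfx : Fx x) {m : G} (hm : m ∈ M) (hxm : x * m ≠ m * x) : False := by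
  classical
  have hp : p.Prime := Fact.out
  letI commM : CommGroup M :=
    { (inferInstance : Group M) with mul_comm := fun a b => Subtype.ext (hMcomm a a.2 b b.2) }
  letI act : DistribMulAction G (Additive (M →* ℂˣ)) := dualAct hMn
  have hact : ∀ (g : G) (v : Additive (M →* ℂˣ)) (a : M),
      (g • v).toMul a = v.toMul ⟨g⁻¹ * a * g⁻¹⁻¹, hMn.conj_mem _ a.2 _⟩ := fun _ _ _ => rfl
  haveI : Finite (Additive (M →* ℂˣ)) := Finite.of_equiv _ Additive.ofMul
  -- elements of `M` act trivially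
  have hMtriv : ∀ c ∈ M, ∀ v : Additive (M →* ℂˣ), c • v = v := by
    intro c hc v
    apply Additive.toMul.injective
    ext a
    rw [hact]
    have h1 : (⟨c⁻¹ * a * c⁻¹⁻¹, hMn.conj_mem _ a.2 _⟩ : M) = a := by
      apply Subtype.ext
      change c⁻¹ * a * c⁻¹⁻¹ = a
      have := hMcomm _ (M.inv_mem hc) _ a.2
      rw [this]
      group
    rw [h1]
  -- exponent
  have hexp : ∀ v : Additive (M →* ℂˣ), r • v = 0 := by
    intro v
    apply Additive.toMul.injective
    ext a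
    change (((v.toMul ^ r) a : ℂˣ) : ℂ) = 1
    rw [MonoidHom.pow_apply, ← map_pow]
    have : a ^ r = 1 := Subtype.ext (by simpa using hMr a a.2)
    rw [this, map_one]
    rfl
  -- the minimal invariant subgroup
  let S : Set (AddSubgroup (Additive (M →* ℂˣ))) :=
    {U | U ≠ ⊥ ∧ ∀ g : G, ∀ u ∈ U, g • u ∈ U}
  have hne : ∃ φ : M →* ℂˣ, φ ≠ 1 := by
    obtain ⟨a, ha⟩ := (Subgroup.ne_bot_iff_exists_ne_one (H := M)).mp hM1
    obtain ⟨φ, hφ⟩ := CommGroup.exists_apply_ne_one_of_hasEnoughRootsOfUnity M ℂ ha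
    refine ⟨φ, fun h => hφ ?_⟩
    rw [h]
    rfl
  have htop : (⊤ : AddSubgroup (Additive (M →* ℂˣ))) ∈ S := by
    refine ⟨?_, fun _ _ _ => trivial⟩
    intro h
    obtain ⟨φ, hφ⟩ := hne
    have h1 : Additive.ofMul φ ∈ (⊤ : AddSubgroup (Additive (M →* ℂˣ))) := trivial
    rw [h, AddSubgroup.mem_bot] at h1
    exact hφ (Additive.ofMul.injective h1)
  have hwf : WellFoundedLT (AddSubgroup (Additive (M →* ℂˣ))) := inferInstance
  obtain ⟨U₀, ⟨hU₀ne, hU₀inv⟩, hU₀min⟩ := hwf.wf.has_min S ⟨⊤, htop⟩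
  letI actU : DistribMulAction G U₀ :=
    { smul := fun g u => ⟨g • (u : Additive (M →* ℂˣ)), hU₀inv g _ u.2⟩
      one_smul := fun u => Subtype.ext (one_smul G (u : Additive (M →* ℂˣ)))
      mul_smul := fun g h u => Subtype.ext (mul_smul g h (u : Additive (M →* ℂˣ)))
      smul_zero := fun g => Subtype.ext (act.smul_zero g)
      smul_add := fun g a b => Subtype.ext (act.smul_add g (a : Additive (M →* ℂˣ)) b) }
  have hactU : ∀ (g : G) (u : U₀), ((g • u : U₀) : Additive (M →* ℂˣ)) = g • (u : Additive (M →* ℂˣ)) :=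
    fun _ _ => rfl
  have hIrr : Irr G U₀ := by
    intro W hW
    by_cases hW0 : W = ⊥
    · exact Or.inl hW0
    right
    have hmapne : W.map U₀.subtype ≠ ⊥ := by
      intro h
      apply hW0
      rw [eq_bot_iff]
      intro w hw
      have : (w : Additive (M →* ℂˣ)) ∈ W.map U₀.subtype := ⟨w, hw, rfl⟩
      rw [h, AddSubgroup.mem_bot] at this
      rw [AddSubgroup.mem_bot]
      exact Subtype.ext this
    have hmapinv : ∀ g : G, ∀ u ∈ W.map U₀.subtype, g • u ∈ W.map U₀.subtype := by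
      rintro g _ ⟨w, hw, rfl⟩
      exact ⟨g • w, hW g w hw, rfl⟩
    have hle : W.map U₀.subtype ≤ U₀ := by
      rintro _ ⟨w, _, rfl⟩
      exact w.2
    have heq : W.map U₀.subtype = U₀ := by
      by_contra hn
      exact hU₀min _ ⟨hmapne, hmapinv⟩ (lt_of_le_of_ne hle hn)
    rw [eq_top_iff]
    intro u _
    have : (u : Additive (M →* ℂˣ)) ∈ W.map U₀.subtype := by
      rw [heq]
      exact u.2
    obtain ⟨w, hw, hwu⟩ := this
    have : w = u := Subtype.ext hwu
    rwa [← this]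
  have hcop : (Nat.card U₀).Coprime p := by
    by_contra hcon
    have hd : p ∣ Nat.card U₀ := by
      by_contra hnd
      exact hcon (((Nat.Prime.coprime_iff_not_dvd hp).mpr hnd).symm)
    obtain ⟨y, hy⟩ := exists_prime_addOrderOf_dvd_card' p hd
    have h1 : r • y = 0 := Subtype.ext (hexp y)
    have h3 := addOrderOf_dvd_of_nsmul_eq_zero h1
    rw [hy] at h3
    exact hrp ((Nat.prime_dvd_prime_iff_eq hp hr).mp h3).symm
  -- the annihilator
  let Ann : Subgroup G :=
    { carrier := {a | ∃ ha : a ∈ M, ∀ u ∈ U₀, (u.toMul : M →* ℂˣ) ⟨a, ha⟩ = 1}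
      mul_mem' := by
        rintro a b ⟨ha, ha'⟩ ⟨hb, hb'⟩
        refine ⟨M.mul_mem ha hb, fun u hu => ?_⟩
        have : (⟨a * b, M.mul_mem ha hb⟩ : M) = ⟨a, ha⟩ * ⟨b, hb⟩ := rfl
        rw [this, map_mul, ha' u hu, hb' u hu, one_mul]
      one_mem' := ⟨M.one_mem, fun u _ => map_one _⟩
      inv_mem' := by
        rintro a ⟨ha, ha'⟩
        refine ⟨M.inv_mem ha, fun u hu => ?_⟩
        have : (⟨a⁻¹, M.inv_mem ha⟩ : M) = (⟨a, ha⟩ : M)⁻¹ := rfl
        rw [this, map_inv, ha' u hu, inv_one] }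
  have hAnnN : Ann.Normal := by
    constructor
    rintro a ⟨ha, ha'⟩ g
    refine ⟨hMn.conj_mem a ha g, fun u hu => ?_⟩
    have h1 := ha' _ (hU₀inv g⁻¹ u hu)
    rw [hact g⁻¹ u ⟨a, ha⟩] at h1
    rw [← h1]
    congr 1
    apply Subtype.ext
    simp
  have hAnnle : Ann ≤ M := fun a ha => ha.1
  have hAnn : Ann = ⊥ := by
    rcases hmin Ann hAnnN hAnnle with h | h
    · exact h
    · exfalso
      apply hU₀ne
      rw [eq_bot_iff]
      intro u hu
      rw [AddSubgroup.mem_bot]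
      apply Additive.toMul.injective
      ext a
      have h1 : (a : G) ∈ Ann := by rw [h]; exact a.2
      obtain ⟨_, h2⟩ := h1
      have h3 := h2 u hu
      change ((u.toMul a : ℂˣ) : ℂ) = 1
      have h4 : (⟨(a : G), a.2⟩ : M) = a := rfl
      rw [h4] at h3
      rw [h3]
      rfl
  -- `x` moves a point of `U₀`
  have hmoved : ∃ u : U₀, x • u ≠ u := by
    set a : G := x⁻¹ * m * x with ha
    have haM : a ∈ M := by
      have := hMn.conj_mem m hm x⁻¹
      simpa [ha] using this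
    set t : G := a * m⁻¹ with ht
    have htM : t ∈ M := M.mul_mem haM (M.inv_mem hm)
    have ht1 : t ≠ 1 := by
      intro h
      have h1 : a = m := by
        rw [ht] at h
        exact mul_inv_eq_one.mp h
      apply hxm
      rw [ha] at h1
      calc x * m = x * (x⁻¹ * m * x) := by rw [h1]
        _ = m * x := by group
    have htA : t ∉ Ann := by
      rw [hAnn, mem_bot]
      exact ht1
    have hex : ∃ u ∈ U₀, (u.toMul : M →* ℂˣ) ⟨t, htM⟩ ≠ 1 := by
      by_contra hcon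
      push Not at hcon
      exact htA ⟨htM, hcon⟩
    obtain ⟨u, hu, hut⟩ := hex
    refine ⟨⟨u, hu⟩, fun h => hut ?_⟩
    have h1 : x • u = u := congrArg Subtype.val h
    have h2 : (x • u).toMul ⟨m, hm⟩ = (u.toMul : M →* ℂˣ) ⟨m, hm⟩ := by rw [h1]
    rw [hact] at h2
    have h3 : (⟨x⁻¹ * (⟨m, hm⟩ : M) * x⁻¹⁻¹, hMn.conj_mem _ hm _⟩ : M) = ⟨t, htM⟩ * ⟨m, hm⟩ := by
      apply Subtype.ext
      change x⁻¹ * m * x⁻¹⁻¹ = t * m
      rw [ht, ha]
      group
    rw [h3, map_mul] at h2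
    exact mul_eq_right.mp h2
  have hLact : ∀ y ∈ L, ∃ k : ℕ, ∀ v : U₀, y ^ (p ^ k) • v = v := by
    intro y hy
    obtain ⟨k, hk⟩ := hLpow y hy
    exact ⟨k, fun v => Subtype.ext (hMtriv _ hk _)⟩
  obtain ⟨v, hv⟩ := key hp2 _ U₀ G rfl hcop hIrr L hLn hLact x hxL hmoved
  obtain ⟨q, hq⟩ := hfx G (MonoidHom.id G) Function.surjective_id M hMn ((v : Additive (M →* ℂˣ)).toMul)
  apply hv q
  have hc : q * x * q⁻¹ ∈ stabL hMn ((v : Additive (M →* ℂˣ)).toMul) := hq
  have hc' := (stabL hMn ((v : Additive (M →* ℂˣ)).toMul)).inv_mem hc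
  apply Subtype.ext
  apply Additive.toMul.injective
  ext a
  rw [hactU]
  change (((q * x * q⁻¹) • (v : Additive (M →* ℂˣ))).toMul a : ℂ) = _
  rw [hact]
  have := hc' a
  rw [this]

/-- **Main theorem**: in a solvable group, a `p`-element (`p` odd) with the fixing property lies in
`O_p(G)`. -/
theorem mem_pCore_of_fx {p : ℕ} [Fact p.Prime] (hp2 : p ≠ 2) : ∀ (n : ℕ) (G : Type u) [Group G] [Finite G],
    Nat.card G = n → Group.IsSolvable G → ∀ x : G, (∃ k : ℕ, x ^ (p ^ k) = 1) → Fx x → x ∈ pCore p G := by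
  intro n
  induction n using Nat.strong_induction_on with
  | _ n ih =>
  intro G _ _ hn hG x hxp hfx
  classical
  have hp : p.Prime := Fact.out
  rcases subsingleton_or_nontrivial G with hsub | hnt
  · rw [Subsingleton.elim x 1]
    exact one_mem _
  obtain ⟨M, hM⟩ := exists_isMinNormal (G := G)
  have hMcomm := isMinNormal_comm hM
  obtain ⟨r, hr, hMr⟩ := isMinNormal_exponent hM
  obtain ⟨hMn, hM1, hmin⟩ := hM
  haveI := hMn
  let π : G →* G ⧸ M := QuotientGroup.mk' M
  have hπker : ∀ x, π x = 1 ↔ x ∈ M := fun x => QuotientGroup.eq_one_iff x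
  have hπs : Function.Surjective π := QuotientGroup.mk'_surjective M
  have hlt : Nat.card (G ⧸ M) < n := by
    have h1 := M.card_mul_index
    have h2 : 1 < Nat.card M := Finite.one_lt_card_iff_nontrivial.mpr ((Subgroup.nontrivial_iff_ne_bot M).mpr hM1)
    have h3 : 0 < M.index := Nat.pos_of_ne_zero Subgroup.index_ne_zero_of_finite
    rw [hn] at h1
    change M.index < n
    nlinarith
  obtain ⟨kx, hkx⟩ := hxp
  have hxbar : π x ∈ pCore p (G ⧸ M) :=
    ih _ hlt (G ⧸ M) rfl (Group.isSolvable_of_surjective hπs) (π x)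
      ⟨kx, by rw [← map_pow, hkx, map_one]⟩ (hfx.map π hπs)
  let L : Subgroup G := (pCore p (G ⧸ M)).comap π
  have hLn : L.Normal := (pCore_normal p (G ⧸ M)).comap π
  have hxL : x ∈ L := hxbar
  have hLpow : ∀ y ∈ L, ∃ k : ℕ, y ^ (p ^ k) ∈ M := by
    intro y hy
    have h1 : IsPGroup p (pCore p (G ⧸ M)) := pCore_isPGroup
    obtain ⟨k, hk⟩ := h1 ⟨π y, hy⟩
    refine ⟨k, ?_⟩
    rw [← hπker, map_pow]
    exact congrArg Subtype.val hk
  by_cases hrp : r = p
  · subst hrp
    have hLp : IsPGroup r L := by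
      rintro ⟨y, hy⟩
      obtain ⟨k, hk⟩ := hLpow y hy
      refine ⟨k + 1, ?_⟩
      apply Subtype.ext
      have := hMr _ hk
      rw [← pow_mul, ← pow_succ] at this
      simpa using this
    exact (le_pCore hLn hLp) hxL
  by_cases hAC : ∀ m ∈ M, x * m = m * x
  · -- `x` centralizes `M`
    let C : Subgroup G := centralizer (M : Set G)
    have hCn : C.Normal := Subgroup.normal_centralizer
    let D : Subgroup G := L ⊓ C
    have hDn : D.Normal := Subgroup.normal_inf_normal L C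
    have hxD : x ∈ D := by
      refine mem_inf.mpr ⟨hxL, ?_⟩
      rw [mem_centralizer_iff]
      intro m hm
      exact (hAC m hm).symm
    let f : D →* pCore p (G ⧸ M) := (π.comp D.subtype).codRestrict _ (fun x => (mem_inf.mp x.2).1)
    have hker : f.ker ≤ center D := by
      intro x hx
      have h1 : π x = 1 := congrArg Subtype.val (MonoidHom.mem_ker.mp hx)
      have h2 : (x : G) ∈ M := (hπker x).mp h1
      rw [mem_center_iff]
      intro y
      apply Subtype.ext
      have h3 := (mem_inf.mp y.2).2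
      exact (mem_centralizer_iff.mp h3 _ h2).symm
    have hPnil : Group.IsNilpotent (pCore p (G ⧸ M)) := (pCore_isPGroup (p := p)).isNilpotent
    have hDnil : Group.IsNilpotent D := Subgroup.isNilpotent_of_ker_le_center f hker
    have hA' : IsPGroup p (zpowers (⟨x, hxD⟩ : D)) := by
      rw [IsPGroup.iff_card, Nat.card_zpowers]
      have h1 : orderOf (⟨x, hxD⟩ : D) ∣ p ^ kx :=
        orderOf_dvd_of_pow_eq_one (Subtype.ext (by simpa using hkx))
      obtain ⟨j, -, hj⟩ := (Nat.dvd_prime_pow hp).mp h1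
      exact ⟨j, hj⟩
    obtain ⟨Q, hQ⟩ := hA'.exists_le_sylow
    have htf := (Group.isNilpotent_of_finite_tfae (G := D)).out 0 3
    have hQn : (Q : Subgroup D).Normal := htf.mp hDnil p inferInstance Q
    have hQle : (Q : Subgroup D) ≤ pCore p D := le_pCore hQn Q.isPGroup'
    have hmap := map_pCore_le_of_isSubnormal (p := p) (K := D) hDn.isSubnormal
    exact hmap ⟨⟨x, hxD⟩, hQle (hQ (mem_zpowers _)), rfl⟩
  · push Not at hAC
    obtain ⟨m, hm, hxm⟩ := hAC
    exact (false_of_moving hp2 hMn hM1 hmin hMcomm hr hrp hMr hLn hLpow hxL hfx hm hxm).elim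

end Main

end Cfsg.Agent.Lib.Vanish.Fix
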