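import Mathlib
import Cfsg.Agent.Lib.PGroups.ClassTwo

/-!
# Fixed points of `p`-elements on modules of order prime to `p`

Sums of powers; two commuting elements of order `p` have a nontrivial fixed vector; the shift
argument for a pair with central commutator, and the resulting lower bound for modules of
(extraspecial-like) groups.
-/

set_option autoImplicit false
set_option linter.unusedSectionVars false
set_option linter.unusedVariables false

namespace Cfsg.Agent.Lib.Vanish.Shift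

open Subgroup
open scoped commutatorElement

universe u v

variable {V : Type v} [AddCommGroup V]

theorem nsmul_eq_zero_of_coprime [Finite V] {m : ℕ} (h : (Nat.card V).Coprime m) {v : V}
    (hv : m • v = 0) : v = 0 := by
  have h1 : addOrderOf v ∣ m := addOrderOf_dvd_of_nsmul_eq_zero hv
  have h2 : addOrderOf v ∣ Nat.card V := addOrderOf_dvd_natCard v
  have h3 : addOrderOf v = 1 := Nat.eq_one_of_dvd_coprimes h h2 h1
  exact AddMonoid.addOrderOf_eq_one_iff.mp h3

section Act

variable {Q : Type u} [Group Q] [DistribMulAction Q V]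

/-- The sum of the powers of a fixed-point-free element of order dividing `p`. -/
theorem sum_pow_eq_zero {p : ℕ} {w : Q} (hw : w ^ p = 1) {U : AddSubgroup V}
    (hU : ∀ u ∈ U, w • u ∈ U) (hf : ∀ u ∈ U, w • u = u → u = 0) {u : V} (hu : u ∈ U) :
    ∑ k ∈ Finset.range p, (w ^ k) • u = 0 := by
  have hpow : ∀ k : ℕ, (w ^ k) • u ∈ U := by
    intro k
    induction k with
    | zero => simpa using hu
    | succ k ih =>
      rw [pow_succ', mul_smul]
      exact hU _ ih
  apply hf
  · exact AddSubgroup.sum_mem _ fun k _ => hpow k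
  · rw [Finset.smul_sum]
    have h1 : ∀ k ∈ Finset.range p, w • (w ^ k) • u = (w ^ (k + 1)) • u := by
      intro k _
      rw [← mul_smul, pow_succ']
    rw [Finset.sum_congr rfl h1]
    have h2 := Finset.sum_range_succ' (fun k => (w ^ k) • u) p
    have h3 := Finset.sum_range_succ (fun k => (w ^ k) • u) p
    rw [h3] at h2
    simp only [hw, one_smul, pow_zero] at h2
    exact (add_right_cancel h2).symm

/-- Two commuting elements of order dividing `p`: some non-trivial product has a nonzero fixed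
vector. -/
theorem exists_fixed_of_commute {p : ℕ} (hp : p.Prime) {b₁ b₂ : Q} (hc : Commute b₁ b₂)
    (h1 : b₁ ^ p = 1) (h2 : b₂ ^ p = 1) {U : AddSubgroup V} (hU1 : ∀ u ∈ U, b₁ • u ∈ U)
    (hU2 : ∀ u ∈ U, b₂ • u ∈ U) (hinj : ∀ u ∈ U, p • u = 0 → u = 0) {u₀ : V} (hu₀ : u₀ ∈ U)
    (hne : u₀ ≠ 0) :
    ∃ i j : ℕ, i < p ∧ j < p ∧ (i ≠ 0 ∨ j ≠ 0) ∧ ∃ u ∈ U, u ≠ 0 ∧ (b₁ ^ i * b₂ ^ j) • u = u := by
  by_contra hno
  push Not at hno
  have hf : ∀ i j : ℕ, i < p → j < p → (i ≠ 0 ∨ j ≠ 0) → ∀ u ∈ U, (b₁ ^ i * b₂ ^ j) • u = u → u = 0 := by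
    intro i j hi hj hij u hu hfix
    by_contra hu0
    exact hno i j hi hj hij u hu hu0 hfix
  have hpowU : ∀ (i j : ℕ), ∀ u ∈ U, (b₁ ^ i * b₂ ^ j) • u ∈ U := by
    intro i j u hu
    rw [mul_smul]
    have hA : ∀ (k : ℕ), ∀ u ∈ U, (b₁ ^ k) • u ∈ U := by
      intro k
      induction k with
      | zero => intro u hu; simpa using hu
      | succ k ih =>
        intro u hu
        rw [pow_succ', mul_smul]
        exact hU1 _ (ih u hu)
    have hB : ∀ (k : ℕ), ∀ u ∈ U, (b₂ ^ k) • u ∈ U := by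
      intro k
      induction k with
      | zero => intro u hu; simpa using hu
      | succ k ih =>
        intro u hu
        rw [pow_succ', mul_smul]
        exact hU2 _ (ih u hu)
    exact hA _ _ (hB _ _ hu)
  have h1p : 1 < p := hp.one_lt
  -- inner sums vanish
  have hin : ∀ j ∈ Finset.range p, ∑ i ∈ Finset.range p, ((b₁ * b₂ ^ j) ^ i) • u₀ = 0 := by
    intro j hj
    have hj' := Finset.mem_range.mp hj
    apply sum_pow_eq_zero (U := U)
    · rw [(hc.pow_right j).mul_pow, h1, ← pow_mul, mul_comm, pow_mul, h2, one_pow, one_mul]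
    · intro u hu
      have := hpowU 1 j u hu
      rwa [pow_one] at this
    · intro u hu hfix
      exact hf 1 j h1p hj' (Or.inl one_ne_zero) u hu (by rwa [pow_one])
    · exact hu₀
  have hin2 : ∀ i ∈ Finset.range p, i ≠ 0 →
      ∑ j ∈ Finset.range p, ((b₂ ^ i) ^ j) • u₀ = 0 := by
    intro i hi hi0
    have hi' := Finset.mem_range.mp hi
    apply sum_pow_eq_zero (U := U)
    · rw [← pow_mul, mul_comm, pow_mul, h2, one_pow]
    · intro u hu
      have := hpowU 0 i u hu
      rwa [pow_zero, one_mul] at this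
    · intro u hu hfix
      refine hf 0 i hp.pos hi' (Or.inr hi0) u hu ?_
      rwa [pow_zero, one_mul]
    · exact hu₀
  have htot : ∑ j ∈ Finset.range p, ∑ i ∈ Finset.range p, ((b₁ * b₂ ^ j) ^ i) • u₀ = 0 :=
    Finset.sum_eq_zero hin
  rw [Finset.sum_comm] at htot
  have hterm : ∀ i ∈ Finset.range p, ∑ j ∈ Finset.range p, ((b₁ * b₂ ^ j) ^ i) • u₀ =
      if i = 0 then p • u₀ else 0 := by
    intro i hi
    split_ifs with h0
    · subst h0
      simp
    · have : ∀ j ∈ Finset.range p, ((b₁ * b₂ ^ j) ^ i) • u₀ = (b₁ ^ i) • (((b₂ ^ i) ^ j) • u₀) := by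
        intro j _
        rw [(hc.pow_right j).mul_pow, mul_smul, ← pow_mul, ← pow_mul, mul_comm]
      rw [Finset.sum_congr rfl this, ← Finset.smul_sum, hin2 i hi h0, smul_zero]
  rw [Finset.sum_congr rfl hterm, Finset.sum_ite_eq' ] at htot
  rw [if_pos (Finset.mem_range.mpr hp.pos)] at htot
  exact hne (hinj u₀ hu₀ htot)

end Act

section Pair

variable {Q : Type u} [Group Q] [DistribMulAction Q V]

/-- The eigenspace lemma: elements with `b v = ζ^i v`. -/
theorem pow_smul_of_eigen {b ζ : Q} (hc : Commute ζ b) {v : V} {k : ℕ} (hv : b • v = (ζ ^ k) • v)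
    (l : ℕ) : (b ^ l) • v = ((ζ ^ k) ^ l) • v := by
  induction l with
  | zero => simp
  | succ l ih =>
    rw [pow_succ, mul_smul, hv, ← mul_smul, ((hc.pow_left k).pow_right l).symm.eq, mul_smul, ih,
      ← mul_smul, pow_succ']

/-- Independence of eigenspaces. -/
theorem eq_zero_of_sum_eigen {p : ℕ} (hp : p.Prime) {b ζ : Q} (hc : Commute ζ b) (hζ : ζ ^ p = 1)
    (hf : ∀ i : ℕ, ¬ p ∣ i → ∀ v : V, (ζ ^ i) • v = v → v = 0)
    (hinj : ∀ v : V, p • v = 0 → v = 0) (v : ℕ → V) (he : ∀ i < p, b • v i = (ζ ^ i) • v i)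
    (hs : ∑ i ∈ Finset.range p, v i = 0) : ∀ k < p, v k = 0 := by
  intro k hk
  apply hinj
  have hA : ∑ l ∈ Finset.range p, (ζ ^ ((p - k) * l) * b ^ l) • (∑ i ∈ Finset.range p, v i) = 0 := by
    rw [hs]; simp
  simp only [Finset.smul_sum] at hA
  rw [Finset.sum_comm] at hA
  have hterm : ∀ i ∈ Finset.range p, ∑ l ∈ Finset.range p, (ζ ^ ((p - k) * l) * b ^ l) • v i =
      if i = k then p • v k else 0 := by
    intro i hi
    have hi' := Finset.mem_range.mp hi
    have h1 : ∀ l ∈ Finset.range p, (ζ ^ ((p - k) * l) * b ^ l) • v i =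
        ((ζ ^ (p - k + i)) ^ l) • v i := by
      intro l _
      rw [mul_smul, pow_smul_of_eigen hc (he i hi') l, ← mul_smul, ← pow_mul, ← pow_add, ← pow_mul]
      congr 2
      ring
    rw [Finset.sum_congr rfl h1]
    split_ifs with hik
    · subst hik
      have h2 : p - i + i = p := Nat.sub_add_cancel hk.le
      rw [h2, hζ]
      simp
    · apply sum_pow_eq_zero (U := ⊤)
      · rw [← pow_mul, mul_comm, pow_mul, hζ, one_pow]
      · intro u _; trivial
      · intro u _ hu
        refine hf _ ?_ u hu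
        intro hd
        have h3 : p - k + i < 2 * p := by omega
        have h4 : 0 < p - k + i := by omega
        obtain ⟨c, hc'⟩ := hd
        have hc1 : c = 1 := by
          have h5 : c < 2 := by
            by_contra h6
            have : p * 2 ≤ p * c := Nat.mul_le_mul_left p (by omega)
            omega
          have h6 : c ≠ 0 := by
            rintro rfl
            simp at hc'
            omega
          omega
        subst hc1
        omega
      · trivial
  rw [Finset.sum_congr rfl hterm, Finset.sum_ite_eq' ] at hA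
  rw [if_pos (Finset.mem_range.mpr hk)] at hA
  exact hA

/-- The shift by `g`. -/
theorem eigen_shift {b g ζ : Q} (hcg : Commute ζ g) (hrel : b * g = ζ * g * b) {u : V} {k : ℕ}
    (hu : b • u = (ζ ^ k) • u) (m : ℕ) : b • ((g ^ m) • u) = (ζ ^ (k + m)) • ((g ^ m) • u) := by
  induction m with
  | zero => simpa using hu
  | succ m ih =>
    have h1 : ζ * g * ζ ^ (k + m) = ζ ^ (k + (m + 1)) * g := by
      have h2 : g * ζ ^ (k + m) = ζ ^ (k + m) * g := ((hcg.pow_left (k + m)).symm).eq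
      rw [mul_assoc, h2, ← mul_assoc, ← pow_succ']
      rfl
    calc b • (g ^ (m + 1)) • u = (b * g) • (g ^ m) • u := by
          rw [pow_succ', mul_smul, mul_smul]
      _ = (ζ * g) • b • (g ^ m) • u := by rw [hrel, mul_smul]
      _ = (ζ * g * ζ ^ (k + m)) • (g ^ m) • u := by rw [ih, ← mul_smul]
      _ = (ζ ^ (k + (m + 1))) • (g ^ (m + 1)) • u := by
          rw [h1, pow_succ', mul_smul, mul_smul]

/-- A nonzero fixed vector of `b` in every nonzero invariant subgroup. -/
theorem exists_fixed_of_shift {p : ℕ} (hp : p.Prime) {b g ζ : Q} (hcb : Commute ζ b)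
    (hcg : Commute ζ g) (hrel : b * g = ζ * g * b) (hb : b ^ p = 1) (hζ : ζ ^ p = 1)
    (hf : ∀ i : ℕ, ¬ p ∣ i → ∀ v : V, (ζ ^ i) • v = v → v = 0) (hinj : ∀ v : V, p • v = 0 → v = 0)
    {U : AddSubgroup V} (hU : ∀ a : Q, ∀ u ∈ U, a • u ∈ U) {u₀ : V} (hu₀ : u₀ ∈ U) (hne : u₀ ≠ 0) :
    ∃ u ∈ U, u ≠ 0 ∧ b • u = u := by
  obtain ⟨i, j, hi, hj, hij, u, huU, hu0, hfix⟩ := exists_fixed_of_commute hp hcb.symm hb hζ
    (fun u hu => hU b u hu) (fun u hu => hU ζ u hu) (fun u _ h => hinj u h) hu₀ hne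
  have hi0 : i ≠ 0 := by
    rintro rfl
    have hj0 : j ≠ 0 := by
      rcases hij with h | h
      · exact (h rfl).elim
      · exact h
    rw [pow_zero, one_mul] at hfix
    refine hu0 (hf j ?_ u hfix)
    intro hd
    have := Nat.le_of_dvd (Nat.pos_of_ne_zero hj0) hd
    omega
  have hcop : Nat.Coprime i p := by
    refine Nat.Coprime.symm ((Nat.Prime.coprime_iff_not_dvd hp).mpr ?_)
    intro hd
    have := Nat.le_of_dvd (Nat.pos_of_ne_zero hi0) hd
    omega
  obtain ⟨i', -, hi'⟩ := Nat.exists_mul_mod_eq_one_of_coprime hcop hp.one_lt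
  have hw : ((b ^ i * ζ ^ j) ^ i') • u = u := by
    clear hi'
    induction i' with
    | zero => simp
    | succ n ih =>
      rw [pow_succ, mul_smul, hfix, ih]
  have hw2 : (b ^ i * ζ ^ j) ^ i' = b * ζ ^ (j * i') := by
    have hcc : Commute (b ^ i) (ζ ^ j) := (hcb.symm.pow_pow i j)
    rw [hcc.mul_pow, ← pow_mul, ← pow_mul]
    congr 1
    rw [pow_eq_pow_mod (i * i') hb, hi', pow_one]
  rw [hw2] at hw
  set s := j * i' with hs
  have hk : b • u = (ζ ^ (s * (p - 1))) • u := by
    have h1 : (ζ ^ (s * (p - 1))) • ((b * ζ ^ s) • u) = (ζ ^ (s * (p - 1))) • u := by rw [hw]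
    rw [← mul_smul] at h1
    have h2 : ζ ^ (s * (p - 1)) * (b * ζ ^ s) = b := by
      have h3 : Commute (ζ ^ (s * (p - 1))) b := hcb.pow_left _
      rw [← mul_assoc, h3.eq, mul_assoc, ← pow_add]
      have h4 : s * (p - 1) + s = s * p := by
        have := hp.one_lt
        obtain ⟨p', rfl⟩ : ∃ p', p = p' + 1 := ⟨p - 1, by omega⟩
        simp
        ring
      rw [h4, mul_comm, pow_mul, hζ, one_pow, mul_one]
    rw [h2] at h1
    exact h1
  set k := s * (p - 1) with hkdef
  refine ⟨(g ^ (k * (p - 1))) • u, ?_, ?_, ?_⟩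
  · have : ∀ m : ℕ, (g ^ m) • u ∈ U := by
      intro m
      induction m with
      | zero => simpa using huU
      | succ m ih =>
        rw [pow_succ', mul_smul]
        exact hU _ _ ih
    exact this _
  · intro h
    exact hu0 (by simpa using congrArg (fun x => (g ^ (k * (p - 1)))⁻¹ • x) h)
  · rw [eigen_shift hcg hrel hk]
    have h4 : k + k * (p - 1) = k * p := by
      have := hp.one_lt
      obtain ⟨p', rfl⟩ : ∃ p', p = p' + 1 := ⟨p - 1, by omega⟩
      simp
      ring
    rw [h4, mul_comm, pow_mul, hζ, one_pow, one_smul]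

/-- The fixed points of `b` inside `U`. -/
def fixIn (b : Q) (U : AddSubgroup V) : AddSubgroup V where
  carrier := {u | u ∈ U ∧ b • u = u}
  zero_mem' := ⟨U.zero_mem, smul_zero b⟩
  add_mem' := fun {x y} hx hy => ⟨U.add_mem hx.1 hy.1, by rw [smul_add, hx.2, hy.2]⟩
  neg_mem' := fun {x} hx => ⟨U.neg_mem hx.1, by rw [smul_neg, hx.2]⟩

@[simp] theorem mem_fixIn {b : Q} {U : AddSubgroup V} {u : V} : u ∈ fixIn b U ↔ u ∈ U ∧ b • u = u :=
  Iff.rfl

/-- The cardinality of the fixed points of `b`. -/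
theorem card_fixIn_pow_le [Finite V] {p : ℕ} (hp : p.Prime) {b g ζ : Q} (hcb : Commute ζ b)
    (hcg : Commute ζ g) (hrel : b * g = ζ * g * b) (hζ : ζ ^ p = 1)
    (hf : ∀ i : ℕ, ¬ p ∣ i → ∀ v : V, (ζ ^ i) • v = v → v = 0) (hinj : ∀ v : V, p • v = 0 → v = 0)
    {U : AddSubgroup V} (hU : ∀ a : Q, ∀ u ∈ U, a • u ∈ U) :
    Nat.card (fixIn b U) ^ p ≤ Nat.card U := by
  classical
  have hgU : ∀ (m : ℕ), ∀ u ∈ U, (g ^ m) • u ∈ U := by
    intro m u hu
    exact hU _ _ hu
  let Φ : (Fin p → fixIn b U) → U := fun f =>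
    ⟨∑ i : Fin p, (g ^ (i : ℕ)) • ((f i : fixIn b U) : V),
      AddSubgroup.sum_mem _ fun i _ => hgU _ _ (f i).2.1⟩
  have hΦ : Function.Injective Φ := by
    intro f f' hff
    have h1 : ∑ i : Fin p, (g ^ (i : ℕ)) • ((f i : V) - (f' i : V)) = 0 := by
      have h2 := congrArg Subtype.val hff
      simp only [Φ] at h2
      simp only [smul_sub, Finset.sum_sub_distrib]
      rw [h2, sub_self]
    let v : ℕ → V := fun i => if h : i < p then (g ^ i) • ((f ⟨i, h⟩ : V) - (f' ⟨i, h⟩ : V)) else 0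
    have hv : ∑ i ∈ Finset.range p, v i = 0 := by
      rw [← Fin.sum_univ_eq_sum_range, ← h1]
      refine Finset.sum_congr rfl fun i _ => ?_
      simp [v]
    have he : ∀ i < p, b • v i = (ζ ^ i) • v i := by
      intro i hi
      simp only [v, dif_pos hi]
      have hfix : b • ((f ⟨i, hi⟩ : V) - (f' ⟨i, hi⟩ : V)) =
          (ζ ^ 0) • ((f ⟨i, hi⟩ : V) - (f' ⟨i, hi⟩ : V)) := by
        rw [smul_sub, (f ⟨i, hi⟩).2.2, (f' ⟨i, hi⟩).2.2]
        simp
      have := eigen_shift hcg hrel hfix i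
      rwa [zero_add] at this
    have h0 := eq_zero_of_sum_eigen hp hcb hζ hf hinj v he hv
    funext i
    apply Subtype.ext
    have h3 := h0 i i.2
    simp only [v, dif_pos i.2] at h3
    have h4 : (f i : V) - (f' i : V) = 0 := by
      have := congrArg (fun x => (g ^ (i : ℕ))⁻¹ • x) h3
      simpa using this
    exact sub_eq_zero.mp h4
  have h2 := Nat.card_le_card_of_injective Φ hΦ
  rwa [Nat.card_fun, Nat.card_eq_fintype_card (α := Fin p), Fintype.card_fin] at h2

end Pair

section Bound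

variable {Q : Type u} [Group Q]

/-- Powers of a generator. -/
theorem fpf_pow {p : ℕ} (hp : p.Prime) [DistribMulAction Q V] {z : Q} (hz : z ^ p = 1)
    (hf : ∀ v : V, z • v = v → v = 0) {s : ℕ} (hs : ¬ p ∣ s) (v : V) (hv : (z ^ s) • v = v) : v = 0 := by
  have hcop : Nat.Coprime s p := ((Nat.Prime.coprime_iff_not_dvd hp).mpr hs).symm
  obtain ⟨s', -, hs'⟩ := Nat.exists_mul_mod_eq_one_of_coprime hcop hp.one_lt
  apply hf
  have h1 : ((z ^ s) ^ s') • v = v := by
    clear hs'
    induction s' with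
    | zero => simp
    | succ n ih => rw [pow_succ, mul_smul, hv, ih]
  rw [← pow_mul, pow_eq_pow_mod (s * s') hz, hs', pow_one] at h1
  exact h1

/-- The facts on a non-commuting pair in a class-two group with cyclic commutators. -/
theorem card_le_of_step [Finite Q] {p : ℕ} (hp : p.Prime) {z : Q} (hz : z ^ p = 1)
    (hzc : z ∈ center Q) (hc : ∀ a b : Q, ⁅a, b⁆ ∈ zpowers z) {b g : Q} (hbg : ⁅b, g⁆ ≠ 1) :
    Nat.card Q ≤ p * Nat.card (centralizer ({b} : Set Q)) ∧
      Nat.card (center (centralizer ({b} : Set Q))) ≤ p * Nat.card (center Q) := by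
  classical
  have hzle : zpowers z ≤ center Q := by rwa [zpowers_le]
  have hc' : ∀ a b : Q, ⁅a, b⁆ ∈ center Q := fun a b => hzle (hc a b)
  have hcardz : Nat.card (zpowers z) ≤ p := by
    rw [Nat.card_zpowers]
    exact Nat.le_of_dvd hp.pos (orderOf_dvd_of_pow_eq_one hz)
  -- homomorphism `h ↦ [b, h]`
  let ψ : Q →* zpowers z :=
    { toFun := fun h => ⟨⁅b, h⁆, hc b h⟩
      map_one' := by
        apply Subtype.ext
        simp [commutatorElement_def]
      map_mul' := fun x y => by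
        apply Subtype.ext
        exact Cfsg.Agent.Lib.PGroups.ClassTwo.comm_mul_right hc' b x y }
  have hker : ∀ h, h ∈ ψ.ker ↔ h ∈ centralizer ({b} : Set Q) := by
    intro h
    rw [MonoidHom.mem_ker, mem_centralizer_singleton_iff]
    constructor
    · intro h1
      have h2 : ⁅b, h⁆ = 1 := congrArg Subtype.val h1
      rw [commutatorElement_eq_one_iff_mul_comm] at h2
      exact h2.symm
    · intro h1
      apply Subtype.ext
      have : ⁅b, h⁆ = 1 := by
        rw [commutatorElement_eq_one_iff_mul_comm]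
        exact h1.symm
      exact this
  have hkereq : ψ.ker = centralizer ({b} : Set Q) := Subgroup.ext hker
  constructor
  · have h1 := Subgroup.card_mul_index ψ.ker
    rw [Subgroup.index_ker, hkereq] at h1
    rw [← h1, mul_comm]
    apply Nat.mul_le_mul_right
    exact le_trans (Nat.card_le_card_of_injective (fun x : ψ.range => (x : zpowers z)) Subtype.val_injective) hcardz
  · -- homomorphism `x ↦ [x, g]` on the centre of the centraliser
    set C := centralizer ({b} : Set Q) with hCdef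
    let ψ' : center C →* zpowers z :=
      { toFun := fun x => ⟨⁅((x : C) : Q), g⁆, hc _ _⟩
        map_one' := by
          apply Subtype.ext
          simp [commutatorElement_def]
        map_mul' := fun x y => by
          apply Subtype.ext
          exact Cfsg.Agent.Lib.PGroups.ClassTwo.comm_mul_left hc' _ _ g }
    -- every element is `c * g ^ i`
    have hgen : ∀ h : Q, ∃ (c : Q) (i : ℕ), c ∈ C ∧ h = c * g ^ i := by
      intro h
      have hne : ψ g ≠ 1 := by
        intro h0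
        exact hbg (congrArg Subtype.val h0)
      have hgenz : ∀ w : zpowers z, ∃ i : ℕ, w = (ψ g) ^ i := by
        intro w
        have hinZ : (ψ g : zpowers z) ≠ 1 := hne
        have hcardp : Nat.card (zpowers z) = p := by
          have h3 : 1 < Nat.card (zpowers z) := by
            apply Finite.one_lt_card_iff_nontrivial.mpr
            exact ⟨⟨ψ g, 1, hne⟩⟩
          rw [Nat.card_zpowers] at h3 ⊢
          have h4 := (Nat.dvd_prime hp).mp (orderOf_dvd_of_pow_eq_one hz)
          omega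
        haveI : Fact p.Prime := ⟨hp⟩
        have hcyc : zpowers (ψ g) = ⊤ := by
          haveI : Finite (zpowers z) := inferInstance
          have h5 := zpowers_eq_top_of_prime_card (G := zpowers z) hcardp hne
          exact h5
        have h6 : w ∈ zpowers (ψ g) := by rw [hcyc]; trivial
        have hfin : IsOfFinOrder (ψ g) := isOfFinOrder_of_finite _
        rw [hfin.mem_zpowers_iff_mem_range_orderOf] at h6
        simp only [Finset.mem_image, Finset.mem_range] at h6
        obtain ⟨i, _, hi⟩ := h6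
        exact ⟨i, hi.symm⟩
      obtain ⟨i, hi⟩ := hgenz (ψ h)
      refine ⟨h * (g ^ i)⁻¹, i, ?_, by group⟩
      have h7 : h * (g ^ i)⁻¹ ∈ ψ.ker := by
        rw [MonoidHom.mem_ker, map_mul, map_inv, map_pow, ← hi, mul_inv_cancel]
      rwa [hkereq] at h7
    -- the kernel of ψ' lies in the centre
    have hker' : ∀ x : center C, ψ' x = 1 → ((x : C) : Q) ∈ center Q := by
      intro x hx
      have h1 : ⁅((x : C) : Q), g⁆ = 1 := congrArg Subtype.val hx
      rw [commutatorElement_eq_one_iff_mul_comm] at h1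
      rw [mem_center_iff]
      intro h
      obtain ⟨c, i, hcC, rfl⟩ := hgen h
      have hxc : ((x : C) : Q) * c = c * ((x : C) : Q) := by
        have := (mem_center_iff.mp x.2) ⟨c, hcC⟩
        exact (congrArg Subtype.val this).symm
      have hxg : Commute ((x : C) : Q) (g ^ i) := (Commute.pow_right h1 i)
      calc c * g ^ i * ((x : C) : Q) = c * (((x : C) : Q) * g ^ i) := by rw [mul_assoc, hxg.eq]
        _ = ((x : C) : Q) * (c * g ^ i) := by rw [← mul_assoc, ← hxc, mul_assoc]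
    have h1 := Subgroup.card_mul_index ψ'.ker
    rw [Subgroup.index_ker] at h1
    rw [← h1, mul_comm]
    apply Nat.mul_le_mul
    · exact le_trans (Nat.card_le_card_of_injective (fun x : ψ'.range => (x : zpowers z)) Subtype.val_injective) hcardz
    · let f : ψ'.ker → center Q := fun x => ⟨(((x : center C) : C) : Q), hker' x x.2⟩
      apply Nat.card_le_card_of_injective f
      intro x y hxy
      have := congrArg Subtype.val hxy
      exact Subtype.ext (Subtype.ext (Subtype.ext this))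

/-- The inductive step for the bound. -/
theorem pair_step [Finite V] [Finite Q] [DistribMulAction Q V] {p : ℕ} (hp : p.Prime)
    (hinj : ∀ v : V, p • v = 0 → v = 0) {z : Q} {U : AddSubgroup V} (hzc : z ∈ center Q)
    (hz : z ^ p = 1) (hf : ∀ v : V, z • v = v → v = 0) (hc : ∀ a b : Q, ⁅a, b⁆ ∈ zpowers z)
    (hexp : ∀ a : Q, a ^ p = 1) (hU0 : U ≠ ⊥) (hU : ∀ a : Q, ∀ u ∈ U, a • u ∈ U) {b g : Q}
    (hbg : ⁅b, g⁆ ≠ 1)
    (IH : ∀ (z' : centralizer ({b} : Set Q)) (U' : AddSubgroup V), z' ∈ center (centralizer ({b} : Set Q)) →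
      z' ^ p = 1 → (∀ v : V, z' • v = v → v = 0) →
      (∀ a c : centralizer ({b} : Set Q), ⁅a, c⁆ ∈ zpowers z') →
      (∀ a : centralizer ({b} : Set Q), a ^ p = 1) → U' ≠ ⊥ →
      (∀ a : centralizer ({b} : Set Q), ∀ u ∈ U', a • u ∈ U') →
      ∃ ℓ : ℕ, 1 ≤ ℓ ∧ (p + 1) ^ ℓ ≤ Nat.card U' ∧
        Nat.card (centralizer ({b} : Set Q)) ≤ ℓ ^ 2 * Nat.card (center (centralizer ({b} : Set Q)))) :
    ∃ ℓ : ℕ, 1 ≤ ℓ ∧ (p + 1) ^ ℓ ≤ Nat.card (fixIn b U) ∧ Nat.card (fixIn b U) ^ p ≤ Nat.card U ∧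
      Nat.card Q ≤ (p * ℓ) ^ 2 * Nat.card (center Q) := by
  classical
  set ζ := ⁅b, g⁆ with hζdef
  have hζm : ζ ∈ zpowers z := hc b g
  have hfin : IsOfFinOrder z := isOfFinOrder_of_finite _
  obtain ⟨s, -, hs⟩ : ∃ s, s < orderOf z ∧ z ^ s = ζ := by
    have := (hfin.mem_zpowers_iff_mem_range_orderOf).mp hζm
    simp only [Finset.mem_image, Finset.mem_range] at this
    obtain ⟨i, hi, h⟩ := this
    exact ⟨i, hi, h⟩
  have hsd : ¬ p ∣ s := by
    rintro ⟨c, hc'⟩
    apply hbg
    rw [← hs, hc', pow_mul, hz, one_pow]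
  have hzcm : ∀ x : Q, z * x = x * z := fun x => (mem_center_iff.mp hzc x).symm
  have hcb : ∀ x : Q, Commute ζ x := by
    intro x
    rw [← hs]
    exact (show Commute z x from hzcm x).pow_left s
  have hζp : ζ ^ p = 1 := by
    rw [← hs, ← pow_mul, mul_comm, pow_mul, hz, one_pow]
  have hrel : b * g = ζ * g * b := by
    rw [hζdef, commutatorElement_def]
    group
  have hfζ : ∀ i : ℕ, ¬ p ∣ i → ∀ v : V, (ζ ^ i) • v = v → v = 0 := by
    intro i hi v hv
    rw [← hs, ← pow_mul] at hv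
    refine fpf_pow hp hz hf ?_ v hv
    intro hd
    rcases (Nat.Prime.dvd_mul hp).mp hd with h | h
    · exact hsd h
    · exact hi h
  obtain ⟨⟨u₀, hu₀⟩, hne₀⟩ := (AddSubgroup.ne_bot_iff_exists_ne_zero (H := U)).mp hU0
  have hu₀ne : u₀ ≠ 0 := fun h => hne₀ (Subtype.ext h)
  obtain ⟨u, huU, hu0, hub⟩ := exists_fixed_of_shift hp (hcb b) (hcb g) hrel (hexp b) hζp hfζ hinj hU hu₀ hu₀ne
  have hcard := card_fixIn_pow_le hp (hcb b) (hcb g) hrel hζp hfζ hinj hU
  obtain ⟨hQ1, hQ2⟩ := card_le_of_step hp hz hzc hc hbg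
  let z' : centralizer ({b} : Set Q) := ⟨z, by
    rw [mem_centralizer_singleton_iff]
    exact hzcm b⟩
  obtain ⟨ℓ, hℓ1, hℓ2, hℓ3⟩ := IH z' (fixIn b U)
    (by
      rw [mem_center_iff]
      intro x
      exact Subtype.ext (hzcm x).symm)
    (Subtype.ext hz)
    (fun v hv => hf v hv)
    (by
      intro a c
      have h1 := hc (a : Q) (c : Q)
      obtain ⟨k, hk⟩ := mem_zpowers_iff.mp h1
      refine mem_zpowers_iff.mpr ⟨k, Subtype.ext ?_⟩
      simpa [z', commutatorElement_def] using hk)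
    (fun a => Subtype.ext (hexp a))
    (by
      intro hbot
      have : u ∈ fixIn b U := ⟨huU, hub⟩
      rw [hbot, AddSubgroup.mem_bot] at this
      exact hu0 this)
    (by
      intro a x hx
      refine ⟨hU _ _ hx.1, ?_⟩
      have hab : (a : Q) * b = b * a := mem_centralizer_singleton_iff.mp a.2
      change b • ((a : Q) • x) = (a : Q) • x
      rw [← mul_smul, ← hab, mul_smul, hx.2])
  refine ⟨ℓ, hℓ1, hℓ2, hcard, ?_⟩
  calc Nat.card Q ≤ p * Nat.card (centralizer ({b} : Set Q)) := hQ1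
    _ ≤ p * (ℓ ^ 2 * Nat.card (center (centralizer ({b} : Set Q)))) := Nat.mul_le_mul_left _ hℓ3
    _ ≤ p * (ℓ ^ 2 * (p * Nat.card (center Q))) :=
        Nat.mul_le_mul_left _ (Nat.mul_le_mul_left _ hQ2)
    _ = (p * ℓ) ^ 2 * Nat.card (center Q) := by ring

/-- **The lower bound.** -/
theorem bound [Finite V] {p : ℕ} (hp : p.Prime) (hinj : ∀ v : V, p • v = 0 → v = 0) (n : ℕ) :
    ∀ (Q : Type u) [Group Q] [Finite Q] [DistribMulAction Q V] (z : Q) (U : AddSubgroup V),
      Nat.card Q ≤ n → z ∈ center Q → z ^ p = 1 → (∀ v : V, z • v = v → v = 0) →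
      (∀ a b : Q, ⁅a, b⁆ ∈ zpowers z) → (∀ a : Q, a ^ p = 1) → U ≠ ⊥ →
      (∀ a : Q, ∀ u ∈ U, a • u ∈ U) →
      ∃ ℓ : ℕ, 1 ≤ ℓ ∧ (p + 1) ^ ℓ ≤ Nat.card U ∧ Nat.card Q ≤ ℓ ^ 2 * Nat.card (center Q) := by
  classical
  induction n with
  | zero =>
    intro Q _ _ _ z U hn
    have : 0 < Nat.card Q := Nat.card_pos
    omega
  | succ n ih =>
    intro Q _ _ _ z U hn hzc hz hf hc hexp hU0 hU
    by_cases hab : ∀ a b : Q, ⁅a, b⁆ = 1
    · refine ⟨1, le_rfl, ?_, ?_⟩
      · rw [pow_one]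
        obtain ⟨⟨u, hu⟩, hu0⟩ := (AddSubgroup.ne_bot_iff_exists_ne_zero (H := U)).mp hU0
        have hu0' : u ≠ 0 := fun h => hu0 (Subtype.ext h)
        have hpowU : ∀ i : ℕ, (z ^ i) • u ∈ U := fun i => hU _ _ hu
        let f : Option (Fin p) → U := fun o => match o with
          | none => 0
          | some i => ⟨(z ^ (i : ℕ)) • u, hpowU i⟩
        have hf0 : ∀ i : ℕ, (z ^ i) • u ≠ 0 := by
          intro i h
          apply hu0'
          simpa using congrArg (fun x => (z ^ i)⁻¹ • x) h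
        have hfi : Function.Injective f := by
          have key : ∀ i j : ℕ, i < j → j < p → (z ^ i) • u ≠ (z ^ j) • u := by
            intro i j hij hj h
            apply hu0'
            have h2 : (z ^ (j - i)) • u = u := by
              have h4 : z ^ j = z ^ i * z ^ (j - i) := by
                rw [← pow_add]
                congr 1
                omega
              rw [h4, mul_smul] at h
              exact (smul_left_cancel _ h).symm
            refine fpf_pow hp hz hf ?_ u h2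
            intro hd
            have := Nat.le_of_dvd (by omega) hd
            omega
          rintro (_ | i) (_ | j) hij
          · rfl
          · exact ((hf0 j) (congrArg Subtype.val hij).symm).elim
          · exact ((hf0 i) (congrArg Subtype.val hij)).elim
          · have h2 : (z ^ (i : ℕ)) • u = (z ^ (j : ℕ)) • u := congrArg Subtype.val hij
            congr 1
            apply Fin.ext
            rcases lt_trichotomy (i : ℕ) (j : ℕ) with h3 | h3 | h3
            · exact (key _ _ h3 j.2 h2).elim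
            · exact h3
            · exact (key _ _ h3 i.2 h2.symm).elim
        have := Nat.card_le_card_of_injective f hfi
        simpa [Finite.card_option] using this
      · have htop : center Q = ⊤ := by
          rw [eq_top_iff]
          intro x _
          rw [mem_center_iff]
          intro y
          have := hab y x
          rwa [commutatorElement_eq_one_iff_mul_comm] at this
        rw [htop]
        simp
    · push Not at hab
      obtain ⟨b, g, hbg⟩ := hab
      have hg : g ∉ centralizer ({b} : Set Q) := by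
        intro h
        apply hbg
        rw [commutatorElement_eq_one_iff_mul_comm]
        exact (mem_centralizer_singleton_iff.mp h).symm
      have hC : Nat.card (centralizer ({b} : Set Q)) ≤ n := by
        have h1 : Nat.card (centralizer ({b} : Set Q)) < Nat.card Q := by
          have hne : centralizer ({b} : Set Q) ≠ ⊤ := fun h => hg (h ▸ mem_top g)
          have h2 := Subgroup.card_mul_index (centralizer ({b} : Set Q))
          have h3 : (centralizer ({b} : Set Q)).index ≠ 1 := fun h => hne (Subgroup.index_eq_one.mp h)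
          have h4 : (centralizer ({b} : Set Q)).index ≠ 0 := Subgroup.index_ne_zero_of_finite
          have h5 : 0 < Nat.card (centralizer ({b} : Set Q)) := Nat.card_pos
          have h6 : 2 ≤ (centralizer ({b} : Set Q)).index := by omega
          nlinarith
        omega
      obtain ⟨ℓ, hℓ1, hℓ2, hℓ3, hℓ4⟩ := pair_step hp hinj hzc hz hf hc hexp hU0 hU hbg
        (fun z' U' h1 h2 h3 h4 h5 h6 h7 => ih _ z' U' hC h1 h2 h3 h4 h5 h6 h7)
      refine ⟨p * ℓ, Nat.mul_pos hp.pos hℓ1, ?_, hℓ4⟩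
      calc (p + 1) ^ (p * ℓ) = ((p + 1) ^ ℓ) ^ p := by rw [← pow_mul, mul_comm]
        _ ≤ Nat.card (fixIn b U) ^ p := Nat.pow_le_pow_left hℓ2 p
        _ ≤ Nat.card U := hℓ3

/-- The bound for the fixed points of a noncentral element. -/
theorem bound_fixIn [Finite V] [Finite Q] [DistribMulAction Q V] {p : ℕ} (hp : p.Prime)
    (hinj : ∀ v : V, p • v = 0 → v = 0) {z : Q} {U : AddSubgroup V} (hzc : z ∈ center Q)
    (hz : z ^ p = 1) (hf : ∀ v : V, z • v = v → v = 0) (hc : ∀ a b : Q, ⁅a, b⁆ ∈ zpowers z)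
    (hexp : ∀ a : Q, a ^ p = 1) (hU0 : U ≠ ⊥) (hU : ∀ a : Q, ∀ u ∈ U, a • u ∈ U) {b g : Q}
    (hbg : ⁅b, g⁆ ≠ 1) :
    ∃ ℓ : ℕ, 1 ≤ ℓ ∧ (p + 1) ^ ℓ ≤ Nat.card (fixIn b U) ∧ Nat.card (fixIn b U) ^ p ≤ Nat.card U ∧
      Nat.card Q ≤ (p * ℓ) ^ 2 * Nat.card (center Q) :=
  pair_step hp hinj hzc hz hf hc hexp hU0 hU hbg
    (fun z' U' h1 h2 h3 h4 h5 h6 h7 => bound hp hinj _ _ z' U' le_rfl h1 h2 h3 h4 h5 h6 h7)

/-- The numerical inequality. -/
theorem numeric {p ℓ : ℕ} (hp : 3 ≤ p) (hℓ : 1 ≤ ℓ) :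
    p ^ 3 * ℓ ^ 2 < (p - 1) * (p + 1) ^ (ℓ * (p - 1)) + p := by
  obtain ⟨q, rfl⟩ : ∃ q, p = q + 3 := ⟨p - 3, by omega⟩
  have hq : q + 3 - 1 = q + 2 := by omega
  rw [hq]
  induction ℓ, hℓ using Nat.le_induction with
  | base =>
    simp only [one_mul, one_pow, mul_one]
    -- `(q+3)^3 < (q+2) (q+4)^(q+2) + (q+3)`
    have h1 : q + 4 ≤ (q + 3 + 1) ^ (q + 1) := by
      calc q + 4 = (q + 3 + 1) ^ 1 := by simp
        _ ≤ (q + 3 + 1) ^ (q + 1) := Nat.pow_le_pow_right (by omega) (by omega)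
    have h2 : (q + 3 + 1) ^ (q + 2) = (q + 3 + 1) ^ (q + 1) * (q + 4) := by
      rw [pow_succ]
    rw [h2]
    have h3 : (q + 2) * ((q + 4) * (q + 4)) ≤ (q + 2) * ((q + 3 + 1) ^ (q + 1) * (q + 4)) :=
      Nat.mul_le_mul_left _ (Nat.mul_le_mul_right _ h1)
    nlinarith
  | succ ℓ hℓ ih =>
    have h1 : (q + 3 + 1) ^ ((ℓ + 1) * (q + 2)) = (q + 3 + 1) ^ (ℓ * (q + 2)) * (q + 3 + 1) ^ (q + 2) := by
      rw [add_mul, one_mul, pow_add]
    have h2 : 4 ≤ (q + 3 + 1) ^ (q + 2) := by
      calc 4 ≤ q + 3 + 1 := by omega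
        _ = (q + 3 + 1) ^ 1 := by simp
        _ ≤ (q + 3 + 1) ^ (q + 2) := Nat.pow_le_pow_right (by omega) (by omega)
    have h3 : (q + 2) * (q + 3 + 1) ^ (ℓ * (q + 2)) * 4 ≤ (q + 2) * (q + 3 + 1) ^ ((ℓ + 1) * (q + 2)) := by
      rw [h1, mul_assoc]
      exact Nat.mul_le_mul_left _ (Nat.mul_le_mul_left _ h2)
    have h4 : (ℓ + 1) ^ 2 ≤ 4 * ℓ ^ 2 := by nlinarith
    have h5 : (q + 3) ^ 3 * (ℓ + 1) ^ 2 ≤ (q + 3) ^ 3 * (4 * ℓ ^ 2) := Nat.mul_le_mul_left _ h4
    -- `(q+3)^3 ℓ² ≤ (q+2) M + q + 2`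
    have h6 : (q + 3) ^ 3 * (4 * ℓ ^ 2) = 4 * ((q + 3) ^ 3 * ℓ ^ 2) := by ring
    have h7 : 1 ≤ (q + 3 + 1) ^ (ℓ * (q + 2)) := Nat.one_le_pow _ _ (by omega)
    have h8 : (q + 2) * 1 ≤ (q + 2) * (q + 3 + 1) ^ (ℓ * (q + 2)) := Nat.mul_le_mul_left _ h7
    -- the `+ p` term
    have h9 : (q + 3) ^ 3 * (ℓ + 1) ^ 2 ≤ 4 * ((q + 2) * (q + 3 + 1) ^ (ℓ * (q + 2)) + (q + 3) - 1) := by
      have : (q + 3) ^ 3 * ℓ ^ 2 ≤ (q + 2) * (q + 3 + 1) ^ (ℓ * (q + 2)) + (q + 3) - 1 := by omega
      omega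
    -- crude comparison needs more room: use `16` instead of `4`
    have h2' : 16 ≤ (q + 3 + 1) ^ (q + 2) := by
      calc 16 = 4 ^ 2 := by norm_num
        _ ≤ (q + 3 + 1) ^ 2 := Nat.pow_le_pow_left (by omega) 2
        _ ≤ (q + 3 + 1) ^ (q + 2) := Nat.pow_le_pow_right (by omega) (by omega)
    have h3' : (q + 2) * (q + 3 + 1) ^ (ℓ * (q + 2)) * 16 ≤ (q + 2) * (q + 3 + 1) ^ ((ℓ + 1) * (q + 2)) := by
      rw [h1, mul_assoc]
      exact Nat.mul_le_mul_left _ (Nat.mul_le_mul_left _ h2')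
    have hq2 : q + 3 ≤ 4 * (q + 2) := by omega
    generalize (q + 2) * (q + 3 + 1) ^ (ℓ * (q + 2)) = M at *
    generalize (q + 2) * (q + 3 + 1) ^ ((ℓ + 1) * (q + 2)) = M' at *
    omega

end Bound

end Cfsg.Agent.Lib.Vanish.Shift
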