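import Mathlib
import Cfsg.Agent.Lib.Vanish.Fix
import Cfsg.Agent.Lib.Vanish.Shift

/-!
# Sylow subgroups modulo `O_p(G)`

If in a solvable group all `p`-elements outside `O_p(G)` have `p`-th power in `O_p(G)` and centralize no
nontrivial element of prime order different from `p`, then `P O_p(G) / O_p(G)` has order at most `p`.
-/

set_option autoImplicit false
set_option linter.unusedSectionVars false
set_option linter.unusedVariables false
set_option linter.style.haveILetI false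

namespace Cfsg.Agent.Lib.Vanish.OneClass

open Cfsg Subgroup
open Cfsg.Agent.Lib.Solvable.Basic Cfsg.Agent.Lib.Core.Basic
open Cfsg.Agent.Lib.Vanish.Fix

universe u

/-- Independence of two elements of order `p`. -/
theorem indep {Q : Type*} [Group Q] {p : ℕ} (hp : p.Prime) {a b : Q} (ha : a ^ p = 1) (hb : b ^ p = 1)
    (ha1 : a ≠ 1) (hbn : b ∉ zpowers a) {i j : ℕ} (hi : i < p) (hj : j < p) (hij : i ≠ 0 ∨ j ≠ 0) :
    a ^ i * b ^ j ≠ 1 := by
  haveI : Fact p.Prime := ⟨hp⟩
  intro h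
  by_cases hj0 : j = 0
  · subst hj0
    have hi0 : i ≠ 0 := by
      rcases hij with h' | h'
      · exact h'
      · exact (h' rfl).elim
    rw [pow_zero, mul_one] at h
    have h1 := orderOf_dvd_of_pow_eq_one h
    have h2 : orderOf a = p := orderOf_eq_prime ha ha1
    rw [h2] at h1
    have := Nat.le_of_dvd (Nat.pos_of_ne_zero hi0) h1
    omega
  · have hcop : Nat.Coprime j p := by
      refine Nat.Coprime.symm ((Nat.Prime.coprime_iff_not_dvd hp).mpr ?_)
      intro hd
      have := Nat.le_of_dvd (Nat.pos_of_ne_zero hj0) hd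
      omega
    obtain ⟨j', -, hj'⟩ := Nat.exists_mul_mod_eq_one_of_coprime hcop hp.one_lt
    apply hbn
    have h1 : b ^ j = (a ^ i)⁻¹ := eq_inv_of_mul_eq_one_right h
    have h2 : (b ^ j) ^ j' = b := by
      rw [← pow_mul, pow_eq_pow_mod (j * j') hb, hj', pow_one]
    rw [← h2, h1]
    exact pow_mem (inv_mem (pow_mem (mem_zpowers a) i)) j'

/-- A self-map of prime period without fixed points. -/
theorem dvd_card_of_free' {X : Type*} [Finite X] (f : X → X) {q : ℕ} [hq : Fact q.Prime]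
    (hf : ∀ x, f^[q] x = x) (hfree : ∀ x, f x ≠ x) : q ∣ Nat.card X := by
  classical
  have := Fintype.ofFinite X
  let g : Function.End X := f
  have h1 : g ^ q ^ 1 = 1 := by
    rw [pow_one]
    funext x
    exact hf x
  have h2 := Equiv.Perm.card_fixedPoints_modEq (f := g) (p := q) (n := 1) h1
  have h3 : IsEmpty (Function.fixedPoints f) := ⟨fun x => hfree x.1 x.2⟩
  have h4 : Fintype.card (Function.fixedPoints f) = 0 := Fintype.card_eq_zero
  rw [Nat.card_eq_fintype_card]
  have h5 : Fintype.card X ≡ 0 [MOD q] := by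
    convert h2
    exact h4.symm
  exact (Nat.modEq_zero_iff_dvd).mp h5

/-- An `r`-element `y` (`r ≠ p`) stabilising a coset `x R` of a normal `p`-subgroup centralizes a point
of it. -/
theorem exists_fixed_in_coset' {G : Type*} [Group G] [Finite G] {p r : ℕ} [hp : Fact p.Prime]
    (hr : r.Prime) (hrp : r ≠ p) {R : Subgroup G} [R.Normal] (hR : IsPGroup p R) {x y : G}
    (hy : y ^ r = 1) (hxy : (y * x * y⁻¹) * x⁻¹ ∈ R) : ∃ g : G, x⁻¹ * g ∈ R ∧ y * g = g * y := by
  classical
  haveI : Fact r.Prime := ⟨hr⟩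
  let X := {g : G // x⁻¹ * g ∈ R}
  have hmem : ∀ g : X, x⁻¹ * (y * g.1 * y⁻¹) ∈ R := by
    rintro ⟨g, hg⟩
    -- `g = x a`; `y x a y⁻¹ = (y x y⁻¹) (y a y⁻¹)`
    have h1 : y * g * y⁻¹ = (y * x * y⁻¹) * (y * (x⁻¹ * g) * y⁻¹) := by group
    have h2 : y * (x⁻¹ * g) * y⁻¹ ∈ R := ‹R.Normal›.conj_mem _ hg y
    have h3 : x⁻¹ * (y * x * y⁻¹) ∈ R := by
      have := ‹R.Normal›.conj_mem _ hxy x⁻¹
      have h4 : x⁻¹ * (y * x * y⁻¹ * x⁻¹) * x⁻¹⁻¹ = x⁻¹ * (y * x * y⁻¹) := by group
      rwa [h4] at this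
    change x⁻¹ * (y * g * y⁻¹) ∈ R
    rw [h1, ← mul_assoc]
    exact R.mul_mem h3 h2
  let f : X → X := fun g => ⟨y * g.1 * y⁻¹, hmem g⟩
  have hiter : ∀ (n : ℕ) (g : X), (f^[n] g).1 = y ^ n * g.1 * (y ^ n)⁻¹ := by
    intro n
    induction n with
    | zero => intro g; simp
    | succ n ih =>
      intro g
      rw [Function.iterate_succ_apply', show (f (f^[n] g)).1 = y * (f^[n] g).1 * y⁻¹ from rfl, ih, pow_succ']
      group
  have hcard : Nat.card X = Nat.card R := by
    let e : R ≃ X :=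
      { toFun := fun a => ⟨x * a, by simp⟩
        invFun := fun g => ⟨x⁻¹ * g.1, g.2⟩
        left_inv := fun a => by
          apply Subtype.ext
          simp
        right_inv := fun g => by
          apply Subtype.ext
          simp }
    exact (Nat.card_congr e).symm
  by_contra hno
  push Not at hno
  have hd : r ∣ Nat.card X := by
    apply dvd_card_of_free' f (q := r)
    · intro g
      apply Subtype.ext
      rw [hiter, hy]
      simp
    · intro g h
      apply hno g.1 g.2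
      have h1 : y * g.1 * y⁻¹ = g.1 := congrArg Subtype.val h
      calc y * g.1 = (y * g.1 * y⁻¹) * y := by group
        _ = g.1 * y := by rw [h1]
  rw [hcard] at hd
  obtain ⟨n, hn⟩ := IsPGroup.iff_card.mp hR
  rw [hn] at hd
  have := (Nat.prime_dvd_prime_iff_eq hr hp.out).mp (hr.dvd_of_dvd_pow hd)
  exact hrp this

/-- A lift of an element of prime order `r ≠ p` modulo a normal `p`-subgroup to an element of order `r`. -/
theorem exists_lift_pow {G : Type*} [Group G] [Finite G] {p r : ℕ} [hp : Fact p.Prime] (hr : r.Prime)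
    (hrp : r ≠ p) {R : Subgroup G} [R.Normal] (hR : IsPGroup p R) {t : G} (ht : t ^ r ∈ R) :
    ∃ y : G, y ^ r = 1 ∧ y⁻¹ * t ∈ R := by
  obtain ⟨k, hk⟩ := hR ⟨t ^ r, ht⟩
  have hk' : (t ^ r) ^ p ^ k = 1 := by simpa using congrArg Subtype.val hk
  have hcop : Nat.Coprime (p ^ k) r :=
    Nat.Coprime.pow_left _ ((Nat.coprime_primes hp.out hr).mpr hrp.symm)
  obtain ⟨e, -, he⟩ := Nat.exists_mul_mod_eq_one_of_coprime hcop hr.one_lt
  refine ⟨t ^ (p ^ k * e), ?_, ?_⟩
  · rw [← pow_mul]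
    have : p ^ k * e * r = r * p ^ k * e := by ring
    rw [this, pow_mul, pow_mul, hk', one_pow]
  · have hdiv : p ^ k * e = r * (p ^ k * e / r) + 1 := by
      have := Nat.div_add_mod (p ^ k * e) r
      omega
    have h1 : (t ^ (p ^ k * e))⁻¹ * t = ((t ^ r) ^ (p ^ k * e / r))⁻¹ := by
      rw [hdiv, pow_succ, ← pow_mul]
      have h2 : (r * (p ^ k * e / r) + 1) / r = p ^ k * e / r := by
        rw [← hdiv]
      rw [h2]
      group
    rw [h1]
    exact R.inv_mem (pow_mem ht _)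

/-- Cardinality of the image of a Sylow subgroup modulo `O_p(G)`. -/
theorem card_sylow_eq {G : Type*} [Group G] [Finite G] {p : ℕ} [Fact p.Prime] (P : Sylow p G) :
    Nat.card (P : Subgroup G) =
      Nat.card ((P : Subgroup G).map (QuotientGroup.mk' (pCore p G))) * Nat.card (pCore p G) := by
  have hle : pCore p G ≤ (P : Subgroup G) := pCore_le_sylow P
  let f := (QuotientGroup.mk' (pCore p G)).domRestrict (P : Subgroup G)
  have h1 := Subgroup.card_mul_index f.ker
  rw [Subgroup.index_ker, MonoidHom.domRestrict_range] at h1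
  rw [← h1, mul_comm]
  congr 1
  let e : f.ker ≃ pCore p G :=
    { toFun := fun a => ⟨((a : (P : Subgroup G)) : G), by
        have : f a = 1 := a.2
        exact (QuotientGroup.eq_one_iff _).mp this⟩
      invFun := fun a => ⟨⟨a, hle a.2⟩, by
        change QuotientGroup.mk' (pCore p G) (a : G) = 1
        exact (QuotientGroup.eq_one_iff _).mpr a.2⟩
      left_inv := fun a => rfl
      right_inv := fun a => rfl }
  exact Nat.card_congr e

/-- The main counting statement. -/
theorem card_map_le {G : Type u} [Group G] [Finite G] [Group.IsSolvable G] {p : ℕ} [hpf : Fact p.Prime]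
    (P : Sylow p G)
    (H1 : ∀ x : G, (∃ k : ℕ, x ^ p ^ k = 1) → x ∉ pCore p G → x ^ p ∈ pCore p G)
    (H2 : ∀ g : G, (∃ k : ℕ, g ^ p ^ k = 1) → g ∉ pCore p G → ∀ y : G, y ≠ 1 → Commute g y →
      ∀ r : ℕ, r.Prime → r ≠ p → y ^ r = 1 → False) :
    Nat.card ((P : Subgroup G).map (QuotientGroup.mk' (pCore p G))) ≤ p := by
  classical
  have hp : p.Prime := hpf.out
  by_contra hgt
  push Not at hgt
  set R := pCore p G with hRdef
  haveI hRn : R.Normal := pCore_normal p G
  have hRp : IsPGroup p R := pCore_isPGroup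
  let π : G →* G ⧸ R := QuotientGroup.mk' R
  have hπs : Function.Surjective π := QuotientGroup.mk'_surjective R
  have hπker : ∀ x, π x = 1 ↔ x ∈ R := fun x => QuotientGroup.eq_one_iff x
  let Pb : Subgroup (G ⧸ R) := (P : Subgroup G).map π
  change p < Nat.card Pb at hgt
  have hPbp : IsPGroup p Pb := (P.isPGroup').map π
  have hPelt : ∀ x ∈ (P : Subgroup G), ∃ k : ℕ, x ^ p ^ k = 1 := by
    intro x hx
    obtain ⟨k, hk⟩ := P.isPGroup' ⟨x, hx⟩
    exact ⟨k, by simpa using congrArg Subtype.val hk⟩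
  have hexp : ∀ a ∈ Pb, a ^ p = 1 := by
    rintro _ ⟨x, hx, rfl⟩
    by_cases hxR : x ∈ R
    · rw [(hπker x).mpr hxR, one_pow]
    · rw [← map_pow]
      exact (hπker _).mpr (H1 x (hPelt x hx) hxR)
  haveI : Nontrivial Pb := by
    apply Finite.one_lt_card_iff_nontrivial.mp
    have := hp.one_lt
    omega
  have hcn := hPbp.center_nontrivial
  obtain ⟨z, hz1⟩ := exists_ne (1 : center Pb)
  let a : Pb := z
  have ha1 : a ≠ 1 := fun h => hz1 (Subtype.ext h)
  have hap : a ^ p = 1 := Subtype.ext (hexp _ a.2)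
  have hzt : zpowers a ≠ ⊤ := by
    intro h
    have h1 : Nat.card (zpowers a) = Nat.card Pb := by
      rw [h]
      exact Nat.card_congr Subgroup.topEquiv.toEquiv
    rw [Nat.card_zpowers, orderOf_eq_prime hap ha1] at h1
    omega
  obtain ⟨w, hw⟩ : ∃ w : Pb, w ∉ zpowers a := by
    by_contra hcon
    push Not at hcon
    apply hzt
    rw [eq_top_iff]
    intro w _
    exact hcon w
  have hwp : w ^ p = 1 := Subtype.ext (hexp _ w.2)
  have hac : Commute a w := (mem_center_iff.mp z.2 w).symm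
  -- minimal normal subgroup
  haveI : Nontrivial (G ⧸ R) := by
    obtain ⟨x⟩ : Nonempty {x : Pb // x ≠ 1} := ⟨⟨a, ha1⟩⟩
    exact ⟨⟨(x.1 : G ⧸ R), 1, fun h => x.2 (Subtype.ext h)⟩⟩
  haveI : Group.IsSolvable (G ⧸ R) := Group.isSolvable_of_surjective hπs
  obtain ⟨T, hT⟩ := exists_isMinNormal (G := G ⧸ R)
  have hTcomm := isMinNormal_comm hT
  obtain ⟨r, hr, hTr⟩ := isMinNormal_exponent hT
  obtain ⟨hTn, hT1, hTmin⟩ := hT
  haveI := hTn
  have hrp : r ≠ p := by
    rintro rfl
    have h1 : T ≤ pCore r (G ⧸ R) := le_pCore hTn (isPGroup_of_pow_eq_one hTr)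
    have h2 : pCore r (G ⧸ R) = ⊥ := pCore_quotient_eq_bot
    rw [h2] at h1
    exact hT1 (le_bot_iff.mp h1)
  -- the action
  letI commT : CommGroup T :=
    { (inferInstance : Group T) with mul_comm := fun a b => Subtype.ext (hTcomm a a.2 b b.2) }
  letI act : DistribMulAction (G ⧸ R) (Additive T) :=
    { smul := fun g v => Additive.ofMul ⟨g * (v.toMul : G ⧸ R) * g⁻¹, hTn.conj_mem _ v.toMul.2 g⟩
      one_smul := by
        intro v
        apply Additive.toMul.injective
        apply Subtype.ext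
        change 1 * ((v.toMul : T) : G ⧸ R) * 1⁻¹ = _
        simp
      mul_smul := by
        intro a b v
        apply Additive.toMul.injective
        apply Subtype.ext
        change a * b * ((v.toMul : T) : G ⧸ R) * (a * b)⁻¹ = a * (b * ((v.toMul : T) : G ⧸ R) * b⁻¹) * a⁻¹
        group
      smul_zero := by
        intro g
        apply Additive.toMul.injective
        apply Subtype.ext
        change g * 1 * g⁻¹ = 1
        group
      smul_add := by
        intro g a b
        apply Additive.toMul.injective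
        apply Subtype.ext
        change g * (((a.toMul : T) : G ⧸ R) * ((b.toMul : T) : G ⧸ R)) * g⁻¹ =
          (g * ((a.toMul : T) : G ⧸ R) * g⁻¹) * (g * ((b.toMul : T) : G ⧸ R) * g⁻¹)
        group }
  have hact : ∀ (g : G ⧸ R) (v : Additive T), (((g • v : Additive T).toMul : T) : G ⧸ R) =
      g * (v.toMul : G ⧸ R) * g⁻¹ := fun _ _ => rfl
  have hinj : ∀ u ∈ (⊤ : AddSubgroup (Additive T)), p • u = 0 → u = 0 := by
    intro u _ hu
    apply Additive.toMul.injective
    apply Subtype.ext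
    have h1 : ((u.toMul : T) : G ⧸ R) ^ (p ^ 1) = 1 := by
      have := congrArg (fun v : Additive T => ((v.toMul : T) : G ⧸ R)) hu
      simpa using this
    exact eq_one_of_pow_pow hp hr hrp h1 (hTr _ u.toMul.2)
  obtain ⟨t₀, ht₀⟩ := (Subgroup.ne_bot_iff_exists_ne_one (H := T)).mp hT1
  have hu₀ : Additive.ofMul t₀ ≠ (0 : Additive T) := fun h => ht₀ (Additive.ofMul.injective h)
  have hcomm' : Commute ((a : Pb) : G ⧸ R) ((w : Pb) : G ⧸ R) := congrArg Subtype.val hac.eq
  obtain ⟨i, j, hi, hj, hij, u, -, hu0, hfix⟩ := Cfsg.Agent.Lib.Vanish.Shift.exists_fixed_of_commute hp hcomm'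
    (hexp _ a.2) (hexp _ w.2) (U := ⊤) (fun _ _ => trivial) (fun _ _ => trivial) hinj (u₀ := Additive.ofMul t₀)
    trivial hu₀
  -- the element of `Pb`
  let c : Pb := a ^ i * w ^ j
  have hc1 : c ≠ 1 := indep hp hap hwp ha1 hw hi hj hij
  obtain ⟨x, hxP, hxc⟩ := c.2
  have hxR : x ∉ R := by
    intro h
    apply hc1
    apply Subtype.ext
    rw [← hxc]
    exact (hπker x).mpr h
  -- the fixed element of `T`
  let tb : G ⧸ R := (u.toMul : T)
  have htb1 : tb ≠ 1 := by
    intro h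
    apply hu0
    apply Additive.toMul.injective
    exact Subtype.ext h
  have hctb : (c : G ⧸ R) * tb * (c : G ⧸ R)⁻¹ = tb := by
    have hcc : ((a : Pb) : G ⧸ R) ^ i * ((w : Pb) : G ⧸ R) ^ j = (c : G ⧸ R) := by simp [c]
    rw [hcc] at hfix
    have h1 := congrArg (fun v : Additive T => ((v.toMul : T) : G ⧸ R)) hfix
    exact h1
  obtain ⟨t, ht⟩ := hπs tb
  have htr : t ^ r ∈ R := by
    rw [← hπker, map_pow, ht]
    exact hTr _ (u.toMul).2
  obtain ⟨y, hyr, hyt⟩ := exists_lift_pow hr hrp hRp htr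
  have hπy : π y = tb := by
    have h1 : π (y⁻¹ * t) = 1 := (hπker _).mpr hyt
    rw [map_mul, map_inv, ht] at h1
    exact (inv_mul_eq_one.mp h1)
  have hy1 : y ≠ 1 := by
    rintro rfl
    rw [map_one] at hπy
    exact htb1 hπy.symm
  have hxy : (y * x * y⁻¹) * x⁻¹ ∈ R := by
    rw [← hπker]
    simp only [map_mul, map_inv, hπy, hxc]
    have h2 : tb * (c : G ⧸ R) = (c : G ⧸ R) * tb := by
      calc tb * (c : G ⧸ R) = ((c : G ⧸ R) * tb * (c : G ⧸ R)⁻¹) * (c : G ⧸ R) := by rw [hctb]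
        _ = (c : G ⧸ R) * tb := by group
    rw [h2]
    group
  obtain ⟨g, hg, hgy⟩ := exists_fixed_in_coset' hr hrp hRp hyr hxy
  have hgP : g ∈ (P : Subgroup G) := by
    have h1 := pCore_le_sylow P hg
    have h2 : g = x * (x⁻¹ * g) := by group
    rw [h2]
    exact mul_mem hxP h1
  have hgR : g ∉ R := by
    intro h
    apply hxR
    have h2 : x = g * (x⁻¹ * g)⁻¹ := by group
    rw [h2]
    exact R.mul_mem h (R.inv_mem hg)
  exact H2 g (hPelt g hgP) hgR y hy1 hgy.symm r hr hrp hyr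

/-- A `p`-element outside `O_p(G)` is a zero of an irreducible character, as soon as the main theorem for
the prime `p` is available in `G`. -/
theorem exists_zero_of_not_mem {G : Type u} [Group G] [Finite G] {p : ℕ}
    [Fact p.Prime] (hT : ∀ x : G, (∃ k : ℕ, x ^ p ^ k = 1) → Fx x → x ∈ pCore p G) {x : G}
    (hx : ∃ k : ℕ, x ^ p ^ k = 1) (hxR : x ∉ pCore p G) :
    ∃ χ : IrrCharacter G, (χ : G → ℂ) x = 0 := by
  by_contra hcon
  push Not at hcon
  exact hxR (hT x hx (fx_of_nonvanishing hcon))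

theorem dvd_orderOf_of_not_mem {G : Type u} [Group G] [Finite G] {p : ℕ} [hpf : Fact p.Prime] {x : G}
    (hx : ∃ k : ℕ, x ^ p ^ k = 1) (hxR : x ∉ pCore p G) : p ∣ orderOf x := by
  obtain ⟨k, hk⟩ := hx
  obtain ⟨j, -, hj⟩ := (Nat.dvd_prime_pow hpf.out).mp (orderOf_dvd_of_pow_eq_one hk)
  rw [hj]
  rcases Nat.eq_zero_or_pos j with rfl | hj0
  · exfalso
    apply hxR
    rw [pow_zero, orderOf_eq_one_iff] at hj
    rw [hj]
    exact one_mem _
  · exact dvd_pow_self p hj0.ne'

/-- The two hypotheses of `card_map_le` in a group whose vanishing elements of order divisible by `p`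
all have the same order. -/
theorem H1_of_sameOrder {G : Type u} [Group G] [Finite G] {p : ℕ}
    [hpf : Fact p.Prime] (hT : ∀ x : G, (∃ k : ℕ, x ^ p ^ k = 1) → Fx x → x ∈ pCore p G)
    (Hv : ∀ z w : G, (∃ χ : IrrCharacter G, (χ : G → ℂ) z = 0) → p ∣ orderOf z →
      (∃ χ : IrrCharacter G, (χ : G → ℂ) w = 0) → p ∣ orderOf w → orderOf z = orderOf w)
    (x : G) (hx : ∃ k : ℕ, x ^ p ^ k = 1) (hxR : x ∉ pCore p G) : x ^ p ∈ pCore p G := by
  by_contra hcon
  have hx' : ∃ k : ℕ, (x ^ p) ^ p ^ k = 1 := by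
    obtain ⟨k, hk⟩ := hx
    refine ⟨k, ?_⟩
    rw [← pow_mul, mul_comm, pow_mul, hk, one_pow]
  have h1 := dvd_orderOf_of_not_mem hx hxR
  have h2 := dvd_orderOf_of_not_mem hx' hcon
  have h3 := Hv x (x ^ p) (exists_zero_of_not_mem hT hx hxR) h1 (exists_zero_of_not_mem hT hx' hcon) h2
  rw [orderOf_pow_of_dvd hpf.out.ne_zero h1] at h3
  have hpos : 0 < orderOf x := orderOf_pos x
  have h4 := Nat.div_lt_self hpos hpf.out.one_lt
  omega

theorem H2_of_sameOrder {G : Type u} [Group G] [Finite G] {p : ℕ}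
    [hpf : Fact p.Prime] (hT : ∀ x : G, (∃ k : ℕ, x ^ p ^ k = 1) → Fx x → x ∈ pCore p G)
    (Hv : ∀ z w : G, (∃ χ : IrrCharacter G, (χ : G → ℂ) z = 0) → p ∣ orderOf z →
      (∃ χ : IrrCharacter G, (χ : G → ℂ) w = 0) → p ∣ orderOf w → orderOf z = orderOf w)
    (g : G) (hg : ∃ k : ℕ, g ^ p ^ k = 1) (hgR : g ∉ pCore p G) (y : G) (hy1 : y ≠ 1) (hc : Commute g y)
    (r : ℕ) (hr : r.Prime) (hrp : r ≠ p) (hyr : y ^ r = 1) : False := by
  haveI : Fact r.Prime := ⟨hr⟩
  have hoy : orderOf y = r := orderOf_eq_prime hyr hy1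
  obtain ⟨k, hk⟩ := id hg
  have hcop : (orderOf g).Coprime r := by
    have h1 : Nat.Coprime (p ^ k) r :=
      Nat.Coprime.pow_left _ ((Nat.coprime_primes hpf.out hr).mpr hrp.symm)
    exact Nat.Coprime.coprime_dvd_left (orderOf_dvd_of_pow_eq_one hk) h1
  have hmul : orderOf (g * y) = orderOf g * r := by
    rw [hc.orderOf_mul_eq_mul_orderOf_of_coprime (by rwa [hoy]), hoy]
  have hpg := dvd_orderOf_of_not_mem hg hgR
  have hnv : ∀ χ : IrrCharacter G, (χ : G → ℂ) (g * y) ≠ 0 := by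
    intro χ h0
    have h1 := Hv (g * y) g ⟨χ, h0⟩ (by rw [hmul]; exact Dvd.dvd.mul_right hpg r)
      (exists_zero_of_not_mem hT hg hgR) hpg
    rw [hmul] at h1
    have hpos : 0 < orderOf g := orderOf_pos g
    have h2 := hr.two_le
    nlinarith
  have hfx := fx_of_nonvanishing hnv
  -- `g` is a power of `g y`
  obtain ⟨m, -, hm⟩ := Nat.exists_mul_mod_eq_one_of_coprime (Nat.Coprime.symm hcop) (by
    have h1 : 1 < orderOf g := by
      have h2 : p ∣ orderOf g := hpg
      have h3 := Nat.le_of_dvd (orderOf_pos g) h2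
      have h4 := hpf.out.two_le
      omega
    exact h1)
  have hpow : (g * y) ^ (r * m) = g := by
    rw [hc.mul_pow, pow_mul y, hyr, one_pow, mul_one, pow_eq_pow_mod (r * m) (pow_orderOf_eq_one g), hm, pow_one]
  have hfx' := hfx.pow (r * m)
  rw [hpow] at hfx'
  exact hgR (hT g hg hfx')

/-- The final form. -/
theorem card_map_le_of_sameOrder' {G : Type u} [Group G] [Finite G] [hG : Group.IsSolvable G] {p : ℕ}
    [hpf : Fact p.Prime] (hT : ∀ x : G, (∃ k : ℕ, x ^ p ^ k = 1) → Fx x → x ∈ pCore p G)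
    (Hv : ∀ z w : G, (∃ χ : IrrCharacter G, (χ : G → ℂ) z = 0) → p ∣ orderOf z →
      (∃ χ : IrrCharacter G, (χ : G → ℂ) w = 0) → p ∣ orderOf w → orderOf z = orderOf w)
    (P : Sylow p G) :
    Nat.card ((P : Subgroup G).map (QuotientGroup.mk' (pCore p G))) ≤ p :=
  card_map_le P (H1_of_sameOrder hT Hv) (H2_of_sameOrder hT Hv)

/-- The final form for odd `p`. -/
theorem card_map_le_of_sameOrder {G : Type u} [Group G] [Finite G] [hG : Group.IsSolvable G] {p : ℕ}
    [hpf : Fact p.Prime] (hp2 : p ≠ 2)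
    (Hv : ∀ z w : G, (∃ χ : IrrCharacter G, (χ : G → ℂ) z = 0) → p ∣ orderOf z →
      (∃ χ : IrrCharacter G, (χ : G → ℂ) w = 0) → p ∣ orderOf w → orderOf z = orderOf w)
    (P : Sylow p G) :
    Nat.card ((P : Subgroup G).map (QuotientGroup.mk' (pCore p G))) ≤ p :=
  card_map_le_of_sameOrder' (fun x hx hfx => mem_pCore_of_fx hp2 _ G rfl hG x hx hfx) Hv P

end Cfsg.Agent.Lib.Vanish.OneClass
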